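import Mathlib
import Groth.Prelude.Def_Found

namespace Groth.Agent.H8.FinIC
open TensorProduct
universe u

/-- N-2 domain `R`, `D` a domain containing `R` with fraction field `L` finite over `Frac R`:
the integral closure of `R` in `D` is a noetherian `R`-module. -/
theorem isNoetherian_integralClosure_of_isN2 (R D L : Type u) [CommRing R] [IsDomain R]
    [IsNoetherianRing R] (hR : CAlg.IsN2 R) [CommRing D] [Algebra R D]
    [Field L] [Algebra R L] [Algebra (FractionRing R) L] [IsScalarTower R (FractionRing R) L]
    [Algebra D L] [IsScalarTower R D L] (hinj : Function.Injective (algebraMap D L))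
    (hfin : FiniteDimensional (FractionRing R) L) :
    IsNoetherian R (integralClosure R D) := by
  haveI : Module.Finite R (integralClosure R L) := hR L hfin
  haveI : IsNoetherian R (integralClosure R L) :=
    isNoetherian_of_isNoetherianRing_of_finite R _
  let f : integralClosure R D →ₗ[R] integralClosure R L :=
    { toFun := fun x => ⟨algebraMap D L x, x.2.map (IsScalarTower.toAlgHom R D L)⟩
      map_add' := fun x y => by ext; simp
      map_smul' := fun r x => by
        ext
        simp [Algebra.smul_def, ← IsScalarTower.algebraMap_apply R D L] }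
  refine isNoetherian_of_injective f ?_
  intro x y hxy
  have := congrArg Subtype.val hxy
  exact Subtype.ext (hinj this)

/-- If the integral closures of `R` in `T ⧸ Q`, `Q` minimal prime, are noetherian `R`-modules,
then so is the integral closure of `R` in `T_red`, for `T` with finitely many minimal primes. -/
theorem isNoetherian_integralClosure_red (R T : Type u) [CommRing R] [CommRing T] [Algebra R T]
    (hfin : (minimalPrimes T).Finite)
    (h : ∀ Q ∈ minimalPrimes T, IsNoetherian R (integralClosure R (T ⧸ Q))) :
    IsNoetherian R (integralClosure R (T ⧸ nilradical T)) := by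
  haveI : Finite (minimalPrimes T) := hfin
  haveI : ∀ Q : minimalPrimes T, IsNoetherian R (integralClosure R (T ⧸ Q.1)) := fun Q => h Q.1 Q.2
  have hle : ∀ Q : minimalPrimes T, nilradical T ≤ Q.1 := fun Q => by
    haveI := Q.2.1.1
    exact nilradical_le_prime Q.1
  let g : ∀ Q : minimalPrimes T, (T ⧸ nilradical T) →ₐ[R] (T ⧸ Q.1) := fun Q =>
    Ideal.Quotient.factorₐ R (hle Q)
  let f : integralClosure R (T ⧸ nilradical T) →ₗ[R]
      ∀ Q : minimalPrimes T, integralClosure R (T ⧸ Q.1) :=
    { toFun := fun x Q => ⟨g Q x, x.2.map (g Q)⟩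
      map_add' := fun x y => by ext Q; simp
      map_smul' := fun r x => by ext Q; simp }
  refine isNoetherian_of_injective f ?_
  rw [← LinearMap.ker_eq_bot, LinearMap.ker_eq_bot']
  intro x hx
  obtain ⟨⟨t, ht⟩, rfl⟩ : ∃ t : {t : T // IsIntegral R (Ideal.Quotient.mk (nilradical T) t)},
      x = ⟨Ideal.Quotient.mk _ t.1, t.2⟩ := by
    obtain ⟨t, ht⟩ := Ideal.Quotient.mk_surjective x.1
    exact ⟨⟨t, ht ▸ x.2⟩, Subtype.ext ht.symm⟩
  apply Subtype.ext
  change Ideal.Quotient.mk (nilradical T) t = 0
  rw [Ideal.Quotient.eq_zero_iff_mem, nilradical, ← Ideal.sInf_minimalPrimes, Ideal.mem_sInf]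
  intro Q hQ
  have := congrArg Subtype.val (congrFun hx ⟨Q, hQ⟩)
  simpa [f, g, Ideal.Quotient.eq_zero_iff_mem] using this

end Groth.Agent.H8.FinIC
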