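import Mathlib
import Groth.Prelude.Def_Found

namespace Groth.Agent.H8.FinIC
open TensorProduct
universe u

section setup
variable (A B K' : Type u) [CommRing A] [IsDomain A] [CommRing B] [Algebra A B]
  [Field K'] [Algebra A K'] [Algebra (FractionRing A) K'] [IsScalarTower A (FractionRing A) K']

include A in
theorem flat_field : Module.Flat A K' := Module.Flat.trans A (FractionRing A) K'

theorem algebraMap_injective_field : Function.Injective (algebraMap A K') := by
  rw [IsScalarTower.algebraMap_eq A (FractionRing A) K']
  exact (algebraMap (FractionRing A) K').injective.comp (IsFractionRing.injective A _)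

/-- The property of sub-`A`-algebras of `K'` used in EGA 0_IV 23.2. -/
def P (C : Subalgebra A K') : Prop :=
  Module.Finite A C ∧ ∀ x : K', ∃ a b : C, (b : K') ≠ 0 ∧ x * b = a

variable {A K'} in
theorem isFractionRing_of_P {C : Subalgebra A K'}
    (hC : ∀ x : K', ∃ a b : C, (b : K') ≠ 0 ∧ x * b = a) : IsFractionRing C K' := by
  haveI : FaithfulSMul C K' := (faithfulSMul_iff_algebraMap_injective C K').mpr
    Subtype.val_injective
  refine IsFractionRing.of_field C K' (fun z => ?_)
  obtain ⟨a, b, hb, hab⟩ := hC z
  refine ⟨a, b, ?_⟩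
  change z = (a : K') / (b : K')
  rw [eq_div_iff hb, hab]

variable [FiniteDimensional (FractionRing A) K']

theorem exists_P : ∃ C : Subalgebra A K', P A K' C := by
  classical
  obtain ⟨s, b, hb⟩ := FiniteDimensional.exists_is_basis_integral A (FractionRing A) K'
  refine ⟨Algebra.adjoin A (Set.range b), ?_, ?_⟩
  · have := fg_adjoin_of_finite (R := A) (Set.finite_range b)
      (by rintro _ ⟨x, rfl⟩; exact hb x)
    exact Module.Finite.iff_fg.mpr this
  · intro x
    obtain ⟨d, hd⟩ := IsLocalization.exist_integer_multiples (nonZeroDivisors A)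
      (Finset.univ : Finset s) (fun i => b.repr x i)
    choose a ha using fun i => hd i (Finset.mem_univ i)
    have hmem : ∀ i, b i ∈ Algebra.adjoin A (Set.range b) := fun i =>
      Algebra.subset_adjoin ⟨i, rfl⟩
    refine ⟨⟨∑ i, a i • b i, Subalgebra.sum_mem _ fun i _ => Subalgebra.smul_mem _ (hmem i) _⟩,
      ⟨algebraMap A K' d, Subalgebra.algebraMap_mem _ _⟩, ?_, ?_⟩
    · simp only
      intro h0
      have := algebraMap_injective_field A K' (h0.trans (map_zero _).symm)
      exact nonZeroDivisors.ne_zero d.2 this
    · simp only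
      conv_lhs => rw [← b.sum_repr x]
      rw [Finset.sum_mul]
      refine Finset.sum_congr rfl fun i _ => ?_
      have hai := ha i
      rw [Algebra.smul_def] at hai
      rw [Algebra.smul_def, Algebra.smul_def, IsScalarTower.algebraMap_apply A (FractionRing A) K',
        IsScalarTower.algebraMap_apply A (FractionRing A) K' (a i), hai, map_mul]
      ring

omit [FiniteDimensional (FractionRing A) K'] in
/-- `B ⊗[A] K'` is noetherian. -/
theorem isNoetherianRing_tensor_of [IsNoetherianRing B] (C : Subalgebra A K') [Module.Finite A C]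
    [IsFractionRing C K'] : IsNoetherianRing (B ⊗[A] K') := by
  haveI : IsNoetherianRing (B ⊗[A] C) := IsNoetherianRing.of_finite B _
  haveI : IsNoetherianRing (C ⊗[A] B) :=
    isNoetherianRing_of_ringEquiv _ (Algebra.TensorProduct.comm A B C).toRingEquiv
  haveI : IsNoetherianRing ((C ⊗[A] B) ⊗[C] K') :=
    IsLocalization.isNoetherianRing
      (Algebra.algebraMapSubmonoid (C ⊗[A] B) (nonZeroDivisors C)) ((C ⊗[A] B) ⊗[C] K')
      inferInstance
  let e1 := Algebra.TensorProduct.comm C (C ⊗[A] B) K'
  let e2 := Algebra.TensorProduct.cancelBaseChange A C K' K' B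
  let e3 := Algebra.TensorProduct.comm A K' B
  exact isNoetherianRing_of_ringEquiv _
    ((e1.toRingEquiv.trans e2.toRingEquiv).trans e3.toRingEquiv)

theorem isNoetherianRing_tensor [IsNoetherianRing B] : IsNoetherianRing (B ⊗[A] K') := by
  obtain ⟨C, hC1, hC2⟩ := exists_P A K'
  haveI := hC1
  haveI := isFractionRing_of_P hC2
  exact isNoetherianRing_tensor_of A B K' C

end setup

end Groth.Agent.H8.FinIC
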