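import Mathlib
import Groth.Prelude.Def_Found

namespace Groth.Agent.H8.FinIC
open TensorProduct
universe u

section fd
variable (A B K' : Type u) [CommRing A] [IsDomain A] [CommRing B] [Algebra A B]
  [Field K'] [Algebra A K'] [Algebra (FractionRing A) K'] [IsScalarTower A (FractionRing A) K']
  [FiniteDimensional (FractionRing A) K']

/-- Finite-dimensionality of a field generated by the images of `B ⊗[A] K'`, over a subfield
containing the image of `B`. -/
theorem finiteDimensional_of_tensor (F L : Type u) [Field F] [Field L] [Algebra F L]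
    (ιT : B ⊗[A] K' →+* L) (φB : B →+* F)
    (h1 : ∀ b : B, algebraMap F L (φB b) = ιT (b ⊗ₜ 1))
    (hgen : ∀ z : L, ∃ x y, ιT y ≠ 0 ∧ z * ιT y = ιT x) :
    FiniteDimensional F L := by
  classical
  obtain ⟨s, e, he⟩ := FiniteDimensional.exists_is_basis_integral A (FractionRing A) K'
  let ιK : K' →+* L := ιT.comp (Algebra.TensorProduct.includeRight : K' →ₐ[A] B ⊗[A] K').toRingHom
  have hιK : ∀ k, ιK k = ιT (1 ⊗ₜ k) := fun k => rfl
  have hcomm : (algebraMap F L).comp (φB.comp (algebraMap A B)) = ιK.comp (algebraMap A K') := by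
    ext a
    simp only [RingHom.comp_apply, h1, hιK]
    congr 1
    rw [Algebra.algebraMap_eq_smul_one, Algebra.algebraMap_eq_smul_one, TensorProduct.smul_tmul]
  set E : IntermediateField F L := IntermediateField.adjoin F (Set.range fun i => ιK (e i)) with hE
  haveI : FiniteDimensional F E := by
    apply IntermediateField.finiteDimensional_adjoin
    rintro _ ⟨i, rfl⟩
    exact IsIntegral.map_of_comp_eq (φB.comp (algebraMap A B)) ιK hcomm (he i)
  have ha : ∀ b : B, ιT (b ⊗ₜ 1) ∈ E := fun b => by
    rw [← h1]; exact E.algebraMap_mem _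
  have hA : ∀ a : A, ιK (algebraMap A K' a) ∈ E := fun a => by
    have := congrArg (fun f => f a) hcomm
    simp only [RingHom.comp_apply] at this
    rw [← this]
    exact E.algebraMap_mem _
  have hfrac : ∀ l : FractionRing A, ιK (algebraMap (FractionRing A) K' l) ∈ E := by
    intro l
    obtain ⟨a, s, hs, rfl⟩ := IsFractionRing.div_surjective (A := A) l
    rw [map_div₀, map_div₀, ← IsScalarTower.algebraMap_apply, ← IsScalarTower.algebraMap_apply]
    exact E.div_mem (hA a) (hA s)
  have hb : ∀ k : K', ιK k ∈ E := by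
    intro k
    rw [← e.sum_repr k, map_sum]
    refine E.sum_mem fun i _ => ?_
    rw [Algebra.smul_def, map_mul]
    exact E.mul_mem (hfrac _) (IntermediateField.subset_adjoin F _ ⟨i, rfl⟩)
  have hc : ∀ t : B ⊗[A] K', ιT t ∈ E := by
    intro t
    induction t using TensorProduct.induction_on with
    | zero => rw [map_zero]; exact E.zero_mem
    | tmul b k =>
      have : b ⊗ₜ[A] k = (b ⊗ₜ 1) * (1 ⊗ₜ k) := by
        rw [Algebra.TensorProduct.tmul_mul_tmul, mul_one, one_mul]
      rw [this, map_mul]
      exact E.mul_mem (ha b) (hb k)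
    | add x y hx hy => rw [map_add]; exact E.add_mem hx hy
  have htop : E = ⊤ := by
    rw [eq_top_iff]
    intro z _
    obtain ⟨x, y, hy, hz⟩ := hgen z
    have : z = ιT x / ιT y := by rw [eq_div_iff hy, hz]
    rw [this]
    exact E.div_mem (hc x) (hc y)
  haveI : FiniteDimensional F (⊤ : IntermediateField F L) := htop ▸ this
  exact Module.Finite.equiv (IntermediateField.topEquiv (F := F) (E := L)).toLinearEquiv

end fd

end Groth.Agent.H8.FinIC
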