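import Mathlib
import Groth.Prelude.Def_Found
import Groth.Agent.Lib.Helper8.FinIC.FinIC1
import Groth.Agent.Lib.Helper8.FinIC.FinIC2
import Groth.Agent.Lib.Helper8.FinIC.FinIC3

namespace Groth.Agent.H8.FinIC
open TensorProduct
universe u

/-- Going-down: minimal primes contract to minimal primes. -/
theorem under_mem_minimalPrimes (R S : Type u) [CommRing R] [CommRing S] [Algebra R S]
    [Algebra.HasGoingDown R S] (Q : Ideal S) (hQ : Q ∈ minimalPrimes S) :
    Q.under R ∈ minimalPrimes R := by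
  haveI : Q.IsPrime := hQ.1.1
  refine ⟨⟨inferInstance, bot_le⟩, fun p' hp' hle => ?_⟩
  haveI := hp'.1
  obtain ⟨P, hPQ, hPprime, hPover⟩ :=
    Ideal.exists_ideal_le_liesOver_of_le (p := p') (q := Q.under R) Q hle
  have hQP : Q ≤ P := hQ.2 ⟨hPprime, bot_le⟩ hPQ
  have : P = Q := le_antisymm hPQ hQP
  subst this
  exact le_of_eq hPover.over.symm

variable (A B K' : Type u) [CommRing A] [IsDomain A] [CommRing B] [Algebra A B]
  [Field K'] [Algebra A K'] [Algebra (FractionRing A) K'] [IsScalarTower A (FractionRing A) K']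
  [FiniteDimensional (FractionRing A) K']

attribute [local instance] FractionRing.liftAlgebra in
theorem isNoetherian_integralClosure_quotient [IsNoetherianRing B] [Module.Flat A B]
    (hJ : ∀ (q : Ideal B) [q.IsPrime], q ∈ minimalPrimes B → CAlg.IsN2 (B ⧸ q))
    (Q : Ideal (B ⊗[A] K')) (hQ : Q ∈ minimalPrimes (B ⊗[A] K')) :
    IsNoetherian B (integralClosure B ((B ⊗[A] K') ⧸ Q)) := by
  haveI : Q.IsPrime := hQ.1.1
  haveI : Module.Flat A K' := flat_field A K'
  have hq := under_mem_minimalPrimes B (B ⊗[A] K') Q hQ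
  have hN2 := hJ (Q.under B) hq
  haveI : FaithfulSMul (B ⧸ Q.under B) (FractionRing ((B ⊗[A] K') ⧸ Q)) := by
    rw [faithfulSMul_iff_algebraMap_injective,
      IsScalarTower.algebraMap_eq (B ⧸ Q.under B) ((B ⊗[A] K') ⧸ Q)]
    exact (IsFractionRing.injective ((B ⊗[A] K') ⧸ Q) _).comp
      (FaithfulSMul.algebraMap_injective (B ⧸ Q.under B) ((B ⊗[A] K') ⧸ Q))
  have hfd : FiniteDimensional (FractionRing (B ⧸ Q.under B))
      (FractionRing ((B ⊗[A] K') ⧸ Q)) := by
    refine finiteDimensional_of_tensor A B K' _ _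
      ((algebraMap ((B ⊗[A] K') ⧸ Q) (FractionRing ((B ⊗[A] K') ⧸ Q))).comp (Ideal.Quotient.mk Q))
      ((algebraMap (B ⧸ Q.under B) (FractionRing (B ⧸ Q.under B))).comp
        (Ideal.Quotient.mk (Q.under B))) ?_ ?_
    · intro b
      simp only [RingHom.comp_apply]
      rw [← IsScalarTower.algebraMap_apply (B ⧸ Q.under B) (FractionRing (B ⧸ Q.under B)),
        IsScalarTower.algebraMap_apply (B ⧸ Q.under B) ((B ⊗[A] K') ⧸ Q)]
      rfl
    · intro z
      obtain ⟨x, y, hy, rfl⟩ := IsFractionRing.div_surjective (A := (B ⊗[A] K') ⧸ Q) z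
      obtain ⟨x, rfl⟩ := Ideal.Quotient.mk_surjective x
      obtain ⟨y, rfl⟩ := Ideal.Quotient.mk_surjective y
      refine ⟨x, y, ?_, ?_⟩
      · simp only [RingHom.comp_apply]
        exact IsFractionRing.to_map_ne_zero_of_mem_nonZeroDivisors hy
      · simp only [RingHom.comp_apply]
        rw [div_mul_cancel₀]
        exact IsFractionRing.to_map_ne_zero_of_mem_nonZeroDivisors hy
  have h1 : IsNoetherian (B ⧸ Q.under B) (integralClosure (B ⧸ Q.under B) ((B ⊗[A] K') ⧸ Q)) :=
    isNoetherian_integralClosure_of_isN2 (B ⧸ Q.under B) ((B ⊗[A] K') ⧸ Q)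
      (FractionRing ((B ⊗[A] K') ⧸ Q)) hN2 (IsFractionRing.injective _ _) hfd
  have h2 : (Subalgebra.toSubmodule
      (integralClosure (B ⧸ Q.under B) ((B ⊗[A] K') ⧸ Q))).FG :=
    Module.Finite.iff_fg.mp (Module.IsNoetherian.finite _ _)
  haveI : Module.Finite B (B ⧸ Q.under B) :=
    Module.Finite.of_surjective (Algebra.linearMap B (B ⧸ Q.under B)) Ideal.Quotient.mk_surjective
  have h3 : ((Subalgebra.toSubmodule
      (integralClosure (B ⧸ Q.under B) ((B ⊗[A] K') ⧸ Q))).restrictScalars B).FG :=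
    Submodule.FG.restrictScalars h2
  haveI h4 := isNoetherian_of_fg_of_noetherian _ h3
  refine isNoetherian_of_le (s := Subalgebra.toSubmodule (integralClosure B ((B ⊗[A] K') ⧸ Q)))
    (t := (Subalgebra.toSubmodule
      (integralClosure (B ⧸ Q.under B) ((B ⊗[A] K') ⧸ Q))).restrictScalars B) ?_
  intro x hx
  exact IsIntegral.tower_top (R := B) hx

/-- **EGA 0_IV 23.2.2 (key finiteness)**: the integral closure of `B` in `(B ⊗[A] K')_red` is a
noetherian `B`-module. -/
theorem isNoetherian_integralClosure_tensor_red [IsNoetherianRing B] [Module.Flat A B]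
    (hJ : ∀ (q : Ideal B) [q.IsPrime], q ∈ minimalPrimes B → CAlg.IsN2 (B ⧸ q)) :
    IsNoetherian B (integralClosure B ((B ⊗[A] K') ⧸ nilradical (B ⊗[A] K'))) := by
  haveI := isNoetherianRing_tensor A B K'
  exact isNoetherian_integralClosure_red B (B ⊗[A] K')
    (minimalPrimes.finite_of_isNoetherianRing _)
    (fun Q hQ => isNoetherian_integralClosure_quotient A B K' hJ Q hQ)

end Groth.Agent.H8.FinIC
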