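import Mathlib
import Groth.Prelude.Def_Found
import Groth.Agent.Lib.Helper8.FinIC.FinIC4

namespace Groth.Agent.H8.FinIC
open TensorProduct
universe u

variable (A B K' : Type u) [CommRing A] [IsDomain A] [CommRing B] [Algebra A B]
  [Field K'] [Algebra A K'] [Algebra (FractionRing A) K'] [IsScalarTower A (FractionRing A) K']

/-- The map `C ⊗[A] B → B ⊗[A] K'`. -/
noncomputable def θ (C : Subalgebra A K') : C ⊗[A] B →ₐ[A] B ⊗[A] K' :=
  (Algebra.TensorProduct.map (AlgHom.id A B) C.val).comp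
    (Algebra.TensorProduct.comm A C B).toAlgHom

variable {A B K'} in
@[simp] theorem θ_tmul (C : Subalgebra A K') (c : C) (b : B) :
    θ A B K' C (c ⊗ₜ b) = b ⊗ₜ (c : K') := rfl

variable {A B K'} in
theorem θ_comp {C C' : Subalgebra A K'} (h : C ≤ C') (x : C ⊗[A] B) :
    θ A B K' C' (Algebra.TensorProduct.map (Subalgebra.inclusion h) (AlgHom.id A B) x) =
      θ A B K' C x := by
  induction x using TensorProduct.induction_on with
  | zero => simp
  | tmul c b => rfl
  | add x y hx hy => simp only [map_add, hx, hy]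

theorem θ_injective [Module.Flat A B] (C : Subalgebra A K') :
    Function.Injective (θ A B K' C) := by
  have h1 : Function.Injective (Algebra.TensorProduct.map (AlgHom.id A B) C.val) :=
    Module.Flat.lTensor_preserves_injective_linearMap (M := B) C.val.toLinearMap
      Subtype.val_injective
  exact h1.comp (Algebra.TensorProduct.comm A C B).injective

/-- The `B`-submodule of `(B ⊗[A] K')_red` given by the image of `C ⊗[A] B`. -/
noncomputable def N (C : Subalgebra A K') :
    Submodule B ((B ⊗[A] K') ⧸ nilradical (B ⊗[A] K')) :=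
  Subalgebra.toSubmodule (AlgHom.range ((Ideal.Quotient.mkₐ B (nilradical (B ⊗[A] K'))).comp
    (Algebra.TensorProduct.map (AlgHom.id B B) C.val)))

variable {A B K'} in
theorem θ_comm_symm (C : Subalgebra A K') (y : B ⊗[A] C) :
    θ A B K' C ((Algebra.TensorProduct.comm A C B).symm y) =
      Algebra.TensorProduct.map (AlgHom.id B B) C.val y := by
  induction y using TensorProduct.induction_on with
  | zero => simp
  | tmul b c => rfl
  | add x y hx hy => simp only [map_add, hx, hy]

variable {A B K'} in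
theorem θ_eq_comm (C : Subalgebra A K') (x : C ⊗[A] B) :
    θ A B K' C x =
      Algebra.TensorProduct.map (AlgHom.id B B) C.val (Algebra.TensorProduct.comm A C B x) := by
  rw [← θ_comm_symm, AlgEquiv.symm_apply_apply]

variable {A B K'} in
theorem mem_N_iff (C : Subalgebra A K') (z : (B ⊗[A] K') ⧸ nilradical (B ⊗[A] K')) :
    z ∈ N A B K' C ↔ ∃ x : C ⊗[A] B, Ideal.Quotient.mk _ (θ A B K' C x) = z := by
  constructor
  · rintro ⟨y, rfl⟩
    refine ⟨(Algebra.TensorProduct.comm A C B).symm y, ?_⟩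
    rw [θ_comm_symm]
    rfl
  · rintro ⟨x, rfl⟩
    refine ⟨Algebra.TensorProduct.comm A C B x, ?_⟩
    rw [θ_eq_comm]
    rfl

variable {A B K'} in
theorem N_mono {C C' : Subalgebra A K'} (h : C ≤ C') : N A B K' C ≤ N A B K' C' := by
  intro z hz
  rw [mem_N_iff] at hz ⊢
  obtain ⟨x, rfl⟩ := hz
  exact ⟨Algebra.TensorProduct.map (Subalgebra.inclusion h) (AlgHom.id A B) x, by rw [θ_comp]⟩

theorem N_le_integralClosure (C : Subalgebra A K') [Module.Finite A C] :
    N A B K' C ≤ Subalgebra.toSubmodule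
      (integralClosure B ((B ⊗[A] K') ⧸ nilradical (B ⊗[A] K'))) := by
  rintro _ ⟨y, rfl⟩
  have : IsIntegral B y := Algebra.IsIntegral.isIntegral y
  exact this.map ((Ideal.Quotient.mkₐ B (nilradical (B ⊗[A] K'))).comp
    (Algebra.TensorProduct.map (AlgHom.id B B) C.val))

end Groth.Agent.H8.FinIC

namespace Groth.Agent.H8.FinIC
open TensorProduct
universe u

variable (A B K' : Type u) [CommRing A] [IsDomain A] [CommRing B] [Algebra A B]
  [Field K'] [Algebra A K'] [Algebra (FractionRing A) K'] [IsScalarTower A (FractionRing A) K']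
  [FiniteDimensional (FractionRing A) K']

theorem exists_stationary [IsNoetherianRing B] [Module.Flat A B]
    (hJ : ∀ (q : Ideal B) [q.IsPrime], q ∈ minimalPrimes B → CAlg.IsN2 (B ⧸ q)) :
    ∃ Cα : Subalgebra A K', P A K' Cα ∧
      ∀ C : Subalgebra A K', P A K' C → Cα ≤ C → N A B K' C = N A B K' Cα := by
  haveI hM := isNoetherian_integralClosure_tensor_red A B K' hJ
  set M := integralClosure B ((B ⊗[A] K') ⧸ nilradical (B ⊗[A] K')) with hMdef
  obtain ⟨C0, hC0⟩ := exists_P A K'
  let 𝒮 : Set (Submodule B M) :=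
    {N' | ∃ C, P A K' C ∧ N' = (N A B K' C).comap M.val.toLinearMap}
  obtain ⟨N0, ⟨Cα, hPα, rfl⟩, hmax⟩ :=
    set_has_maximal_iff_noetherian.mpr hM 𝒮 ⟨_, C0, hC0, rfl⟩
  refine ⟨Cα, hPα, fun C hC hle => ?_⟩
  have h1 : N A B K' Cα ≤ N A B K' C := N_mono hle
  have h2 := hmax _ ⟨C, hC, rfl⟩
  refine le_antisymm (fun z hz => ?_) h1
  haveI := hC.1
  have hzM : z ∈ M := N_le_integralClosure A B K' C hz
  by_contra hzn
  apply h2
  refine lt_of_le_of_ne (Submodule.comap_mono h1) (fun heq => ?_)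
  have : (⟨z, hzM⟩ : M) ∈ (N A B K' C).comap M.val.toLinearMap := hz
  rw [← heq] at this
  exact hzn this

/-- **EGA 0_IV 23.2.2 (i)**. -/
theorem exists_eventually_bijective [IsNoetherianRing B] [Module.Flat A B]
    (hJ : ∀ (q : Ideal B) [q.IsPrime], q ∈ minimalPrimes B → CAlg.IsN2 (B ⧸ q)) :
    ∃ Cα : Subalgebra A K', P A K' Cα ∧
      (∀ C : Subalgebra A K', P A K' C → ∀ hle : Cα ≤ C,
        (∀ x : ↥Cα ⊗[A] B, IsNilpotent (Algebra.TensorProduct.map (Subalgebra.inclusion hle)
          (AlgHom.id A B) x) → IsNilpotent x) ∧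
        (∀ y : ↥C ⊗[A] B, ∃ x : ↥Cα ⊗[A] B,
          IsNilpotent (Algebra.TensorProduct.map (Subalgebra.inclusion hle)
            (AlgHom.id A B) x - y))) := by
  obtain ⟨Cα, hPα, hstat⟩ := exists_stationary A B K' hJ
  refine ⟨Cα, hPα, fun C hC hle => ⟨fun x hx => ?_, fun y => ?_⟩⟩
  · have := hx.map (θ A B K' C)
    rw [θ_comp] at this
    exact (IsNilpotent.map_iff (θ_injective A B K' Cα)).mp this
  · have hy : Ideal.Quotient.mk _ (θ A B K' C y) ∈ N A B K' C := (mem_N_iff C _).mpr ⟨y, rfl⟩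
    rw [hstat C hC hle, mem_N_iff] at hy
    obtain ⟨x, hx⟩ := hy
    refine ⟨x, ?_⟩
    rw [← IsNilpotent.map_iff (θ_injective A B K' C), map_sub, θ_comp]
    rw [Ideal.Quotient.eq] at hx
    exact hx

end Groth.Agent.H8.FinIC
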