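import Mathlib
import Groth.Prelude.Def_Found
import Groth.Agent.Lib.Helper8.FinIC.FinIC5

namespace Groth.Agent.H8.FinIC
open TensorProduct AlgebraicGeometry CategoryTheory
universe u

/-- Ring-level criterion for `Spec.map φ` to be universally injective (radicial). -/
theorem universallyInjective_specMap {R S : Type u} [CommRing R] [CommRing S] (φ : R →+* S)
    (h : ∀ (L : Type u) [Field L] (g₁ g₂ : S →+* L), g₁.comp φ = g₂.comp φ → g₁ = g₂) :
    UniversallyInjective (Spec.map (CommRingCat.ofHom φ)) := by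
  have := (tfae_universallyInjective (Spec.map (CommRingCat.ofHom φ))).out 0 1
  rw [this]
  intro L _ g₁ g₂ hg
  obtain ⟨ψ₁, rfl⟩ := Spec.map_surjective g₁
  obtain ⟨ψ₂, rfl⟩ := Spec.map_surjective g₂
  simp only [← Spec.map_comp] at hg
  have h2 := Spec.map_injective hg
  congr 1
  ext1
  apply h L ψ₁.hom ψ₂.hom
  have := congrArg CommRingCat.Hom.hom h2
  simpa using this

end Groth.Agent.H8.FinIC

namespace Groth.Agent.H8.FinIC
open TensorProduct AlgebraicGeometry CategoryTheory
universe u

variable (A B K' : Type u) [CommRing A] [IsDomain A] [CommRing B] [Algebra A B]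
  [Field K'] [Algebra A K'] [Algebra (FractionRing A) K'] [IsScalarTower A (FractionRing A) K']

/-- If `(Cα ⊗ B)_red → (C ⊗ B)_red` is surjective and `B` is faithfully flat over `A`, then two
maps `C → L` to a field agreeing on `Cα` are equal. -/
theorem eq_of_eqOn_of_surjective_red [Module.FaithfullyFlat A B] {Cα C : Subalgebra A K'}
    (hle : Cα ≤ C)
    (hsurj : ∀ y : ↥C ⊗[A] B, ∃ x : ↥Cα ⊗[A] B,
      IsNilpotent (Algebra.TensorProduct.map (Subalgebra.inclusion hle) (AlgHom.id A B) x - y))
    (L : Type u) [Field L] (h₁ h₂ : C →+* L)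
    (hag : h₁.comp (Subalgebra.inclusion hle).toRingHom = h₂.comp (Subalgebra.inclusion hle).toRingHom) :
    h₁ = h₂ := by
  letI : Algebra A L := (h₁.comp (algebraMap A C)).toAlgebra
  have hag' : ∀ c : Cα, h₁ (Subalgebra.inclusion hle c) = h₂ (Subalgebra.inclusion hle c) :=
    fun c => congrArg (fun f => f c) hag
  let h₁' : C →ₐ[A] L := { h₁ with commutes' := fun a => rfl }
  let h₂' : C →ₐ[A] L := { h₂ with commutes' := fun a => (hag' (algebraMap A Cα a)).symm }
  haveI : Nontrivial (L ⊗[A] B) := Module.FaithfullyFlat.rTensor_nontrivial A B L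
  obtain ⟨m, hm⟩ := Ideal.exists_maximal (L ⊗[A] B)
  letI := Ideal.Quotient.field m
  let π : L ⊗[A] B →+* (L ⊗[A] B) ⧸ m := Ideal.Quotient.mk m
  let G₁ : C ⊗[A] B →+* (L ⊗[A] B) ⧸ m :=
    π.comp (Algebra.TensorProduct.map h₁' (AlgHom.id A B)).toRingHom
  let G₂ : C ⊗[A] B →+* (L ⊗[A] B) ⧸ m :=
    π.comp (Algebra.TensorProduct.map h₂' (AlgHom.id A B)).toRingHom
  have hG : ∀ x : Cα ⊗[A] B,
      G₁ (Algebra.TensorProduct.map (Subalgebra.inclusion hle) (AlgHom.id A B) x) =
      G₂ (Algebra.TensorProduct.map (Subalgebra.inclusion hle) (AlgHom.id A B) x) := by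
    intro x
    induction x using TensorProduct.induction_on with
    | zero => simp
    | tmul c b =>
      simp only [G₁, G₂, RingHom.comp_apply, AlgHom.toRingHom_eq_coe, RingHom.coe_coe,
        Algebra.TensorProduct.map_tmul, AlgHom.coe_id, id_eq]
      congr 2
      exact hag' c
    | add x y hx hy => simp only [map_add, hx, hy]
  have hGy : ∀ y : C ⊗[A] B, G₁ y = G₂ y := by
    intro y
    obtain ⟨x, hx⟩ := hsurj y
    have e1 : G₁ (Algebra.TensorProduct.map (Subalgebra.inclusion hle) (AlgHom.id A B) x - y) = 0 :=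
      (hx.map G₁).eq_zero
    have e2 : G₂ (Algebra.TensorProduct.map (Subalgebra.inclusion hle) (AlgHom.id A B) x - y) = 0 :=
      (hx.map G₂).eq_zero
    rw [map_sub, sub_eq_zero] at e1 e2
    rw [← e1, ← e2, hG]
  let j : L →+* (L ⊗[A] B) ⧸ m :=
    π.comp (Algebra.TensorProduct.includeLeft : L →ₐ[A] L ⊗[A] B).toRingHom
  ext c
  apply j.injective
  have := hGy (c ⊗ₜ 1)
  simpa [G₁, G₂, j, h₁', h₂'] using this

end Groth.Agent.H8.FinIC

namespace Groth.Agent.H8.FinIC
open TensorProduct AlgebraicGeometry CategoryTheory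
universe u

variable (A B K' : Type u) [CommRing A] [IsDomain A] [CommRing B] [Algebra A B]
  [Field K'] [Algebra A K'] [Algebra (FractionRing A) K'] [IsScalarTower A (FractionRing A) K']

/-- **EGA 0_IV 23.2.2 (ii)**. -/
theorem universallyInjective_of_stationary [Module.FaithfullyFlat A B] (Cα : Subalgebra A K')
    (hPα : P A K' Cα)
    (hstat : ∀ C : Subalgebra A K', P A K' C → ∀ hle : Cα ≤ C, ∀ y : ↥C ⊗[A] B,
      ∃ x : ↥Cα ⊗[A] B,
        IsNilpotent (Algebra.TensorProduct.map (Subalgebra.inclusion hle) (AlgHom.id A B) x - y))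
    (hint : Cα ≤ integralClosure A K') :
    UniversallyInjective
      (Spec.map (CommRingCat.ofHom (Subalgebra.inclusion hint).toRingHom)) := by
  apply universallyInjective_specMap
  intro L _ g₁ g₂ hg
  ext x
  set C : Subalgebra A K' := Cα ⊔ Algebra.adjoin A {(x : K')} with hCdef
  have hxint : IsIntegral A (x : K') := x.2
  haveI := hPα.1
  haveI : Module.Finite A (Algebra.adjoin A {(x : K')}) :=
    Module.Finite.iff_fg.mpr hxint.fg_adjoin_singleton
  have hle : Cα ≤ C := le_sup_left
  have hC : P A K' C := by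
    refine ⟨Subalgebra.finite_sup _ _, fun z => ?_⟩
    obtain ⟨a, b, hb, hab⟩ := hPα.2 z
    exact ⟨Subalgebra.inclusion hle a, Subalgebra.inclusion hle b, hb, hab⟩
  have hCle : C ≤ integralClosure A K' :=
    sup_le hint (Algebra.adjoin_le (by simp))
  have hxC : (x : K') ∈ C :=
    (le_sup_right : Algebra.adjoin A {(x : K')} ≤ C) (Algebra.subset_adjoin rfl)
  have key := eq_of_eqOn_of_surjective_red A B K' hle (hstat C hC hle) L
    (g₁.comp (Subalgebra.inclusion hCle).toRingHom) (g₂.comp (Subalgebra.inclusion hCle).toRingHom)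
    (by
      ext c
      have := congrArg (fun f => f c) hg
      simpa using this)
  have := congrArg (fun f => f ⟨x, hxC⟩) key
  simpa using this

end Groth.Agent.H8.FinIC
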